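import Groth.Agent.Lib.TFQuot.Basic
import Groth.Agent.Lib.Pinch4.Sheaf
import Groth.Agent.Lib.FlatDesc.Algebra
import Groth.Agent.Lib.RelReg.Chart
import Groth.Agent.Lib.FunMor20.ProjAffine
import Groth.Agent.Lib.OX.LocFreeTensor

/-!
# Quasi-coherent modules as quotients of flat ones when the diagonal is affine
-/

set_option backward.isDefEq.respectTransparency false
set_option backward.isDefEq.respectTransparency.types false
set_option autoImplicit false
set_option linter.style.haveILetI false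

universe u

open CategoryTheory CategoryTheory.Limits AlgebraicGeometry Opposite TopologicalSpace

namespace GrothLib.FlatQuot

/-- Flatness through a flat change of rings. -/
theorem flat_of_semilinear {R S M M' : Type u} [CommRing R] [CommRing S] [AddCommGroup M] [AddCommGroup M']
    [Module R M] [Module S M'] [Module.Flat S M'] (φ : R →+* S) (hφ : φ.Flat) (e : M ≃+ M')
    (h : ∀ (r : R) (m : M), e (r • m) = φ r • e m) : Module.Flat R M := by
  letI := φ.toAlgebra
  letI : Module R M' := Module.compHom M' φ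
  haveI : IsScalarTower R S M' := IsScalarTower.of_algebraMap_smul fun _ _ => rfl
  haveI : Module.Flat R S := hφ
  haveI := Module.Flat.trans R S M'
  exact Module.Flat.of_linearEquiv ({ e with map_smul' := h } : M ≃ₗ[R] M')

variable {X : Scheme.{u}}

/-- Sections over an affine open are flat when all stalks on it are. -/
theorem flat_sections_on (N : X.Modules) [N.IsQuasicoherent] {V : X.Opens} (hV : IsAffineOpen V)
    (hN : ∀ x ∈ V, FlatMod.IsFlatAt N x) : Module.Flat Γ(X, V) Γ(N, V) := by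
  refine Module.flat_of_isLocalized_maximal Γ(X, V) Γ(N, V)
    (fun P _ => LocalizedModule P.primeCompl Γ(N, V)) (fun P _ => LocalizedModule.mkLinearMap _ _)
    fun P hP => ?_
  obtain ⟨x, hx, hxP⟩ := AssPts.exists_point hV P hP.isPrime
  refine FlatFP.flat_localized_prime_congr hxP ?_
  let O := X.presheaf.stalk x
  letI := X.presheaf.algebra_section_stalk ⟨x, hx⟩
  haveI := FlatFP.isLocalization_stalk_primeAt hV hx
  letI : Module Γ(X, V) (N.presheaf.stalk x) := Module.compHom _ (X.presheaf.germ V x hx).hom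
  haveI : IsScalarTower Γ(X, V) O (N.presheaf.stalk x) := IsScalarTower.of_algebraMap_smul fun _ _ => rfl
  obtain ⟨g, hg, -⟩ := FlatFP.isLocalizedModule_germ N hV hx
  haveI := hg
  haveI : Module.Flat O (N.presheaf.stalk x) := hN x hx
  haveI : Module.Flat Γ(X, V) O := IsLocalization.flat O (WeakAss.primeAt x hx).primeCompl
  haveI : Module.Flat Γ(X, V) (N.presheaf.stalk x) := Module.Flat.trans Γ(X, V) O _
  exact Module.Flat.of_linearEquiv (IsLocalizedModule.iso (WeakAss.primeAt x hx).primeCompl g)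

/-- Stalks are flat where the sections over an affine neighbourhood are. -/
theorem isFlatAt_of_sections (F : X.Modules) [F.IsQuasicoherent] {V : X.Opens} (hV : IsAffineOpen V) {x : X}
    (hxV : x ∈ V) (h : Module.Flat Γ(X, V) Γ(F, V)) : FlatMod.IsFlatAt F x := by
  haveI := h
  letI := X.presheaf.algebra_section_stalk ⟨x, hxV⟩
  haveI := FlatFP.isLocalization_stalk_primeAt hV hxV
  letI : Module Γ(X, V) (F.presheaf.stalk x) := Module.compHom _ (X.presheaf.germ V x hxV).hom
  haveI : IsScalarTower Γ(X, V) (X.presheaf.stalk x) (F.presheaf.stalk x) :=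
    IsScalarTower.of_algebraMap_smul fun _ _ => rfl
  obtain ⟨l, hl, -⟩ := FlatFP.isLocalizedModule_germ F hV hxV
  haveI := hl
  exact Module.Flat.of_isLocalizedModule (X.presheaf.stalk x) (WeakAss.primeAt x hxV).primeCompl l

/-- One more affine open on which the cover is flat. -/
theorem exists_epi_flat_step (hd : ∀ V W : X.Opens, IsAffineOpen V → IsAffineOpen W → IsAffineOpen (V ⊓ W))
    {V : X.Opens} (hV : IsAffineOpen V) (W : X.Opens) (F : X.Modules) [F.IsQuasicoherent]
    (hF : ∀ x ∈ W, FlatMod.IsFlatAt F x) :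
    ∃ (F' : X.Modules) (p : F' ⟶ F), F'.IsQuasicoherent ∧ Epi p ∧ ∀ x, x ∈ W ∨ x ∈ V → FlatMod.IsFlatAt F' x := by
  classical
  haveI : IsAffine (V : Scheme.{u}) := hV
  haveI : IsAffineHom V.ι := ⟨fun T hT => by
    rw [← V.ι.isAffineOpen_iff_of_isOpenImmersion, Scheme.Hom.image_preimage_eq_opensRange_inf,
      Scheme.Opens.opensRange_ι]
    exact hd _ _ hV hT⟩
  let B := F.restrict V.ι
  haveI : ((Scheme.Modules.pullback V.ι).obj F).IsQuasicoherent := FittSheaf.isQuasicoherent_pullback V.ι F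
  haveI : B.IsQuasicoherent :=
    QCoh.isQuasicoherent_of_iso ((Scheme.Modules.restrictFunctorIsoPullback V.ι).app F).symm
  let A : (V : Scheme.{u}).Modules := ∐ fun _ : Γ(B, ⊤) => Coh.structureModule (V : Scheme.{u})
  haveI : A.IsQuasicoherent := QCoh.isQuasicoherent_colimit _ fun _ => WeakAss.isQuasicoherent_structureModule
  let g : A ⟶ B := FunMor20.freeCover B
  haveI : Epi g := FunMor20.epi_freeCover B
  have hA : FlatMod.IsFlat A := OX.flat_colimit (colimit.isColimit _) fun _ => OX.flat_structureModule _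
  let Q := (Scheme.Modules.pushforward V.ι).obj A
  let R := (Scheme.Modules.pushforward V.ι).obj B
  haveI : Q.IsQuasicoherent := QCoh.isQuasicoherent_pushforward V.ι _
  haveI : R.IsQuasicoherent := QCoh.isQuasicoherent_pushforward V.ι _
  let q : Q ⟶ R := (Scheme.Modules.pushforward V.ι).map g
  let η : F ⟶ R := (Scheme.Modules.restrictAdjunction V.ι).unit.app F
  haveI : HasFiniteBiproducts X.Modules := HasFiniteBiproducts.of_hasFiniteCoproducts
  haveI : (F ⊞ Q).IsQuasicoherent := Cohom.isQuasicoherent_biprod F Q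
  let d : F ⊞ Q ⟶ R := biprod.fst ≫ η - biprod.snd ≫ q
  let F' := kernel d
  haveI : F'.IsQuasicoherent := QCoh.isQuasicoherent_kernel d
  let p₁ : F' ⟶ F := kernel.ι d ≫ biprod.fst
  let p₂ : F' ⟶ Q := kernel.ι d ≫ biprod.snd
  have hsq : p₁ ≫ η = p₂ ≫ q := by
    rw [← sub_eq_zero]
    simp only [p₁, p₂, Category.assoc, ← Preadditive.comp_sub]
    exact kernel.condition d
  have hqs : ∀ T : X.Opens, IsAffineOpen T → Function.Surjective (q.app T) := fun T hT =>
    ModDesc.app_surjective_of_epi g (hT.preimage V.ι)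
  have hmk : ∀ (T : X.Opens) (a : Γ(F, T)) (b : Γ(Q, T)), η.app T a = q.app T b →
      ∃ z : Γ(F', T), p₁.app T z = a ∧ p₂.app T z = b := fun T a b hab => by
    let c : Γ(F ⊞ Q, T) := (biprod.inl : F ⟶ F ⊞ Q).app T a + (biprod.inr : Q ⟶ F ⊞ Q).app T b
    have e1 : (biprod.fst : F ⊞ Q ⟶ F).app T c = a := by
      simp only [c, map_add]
      rw [show (biprod.fst : F ⊞ Q ⟶ F).app T ((biprod.inl : F ⟶ F ⊞ Q).app T a) = a from
          ConcreteCategory.congr_hom (congrArg (fun t => Scheme.Modules.Hom.app t T) (biprod.inl_fst (X := F) (Y := Q))) a,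
        show (biprod.fst : F ⊞ Q ⟶ F).app T ((biprod.inr : Q ⟶ F ⊞ Q).app T b) = 0 from
          ConcreteCategory.congr_hom (congrArg (fun t => Scheme.Modules.Hom.app t T) (biprod.inr_fst (X := F) (Y := Q))) b,
        add_zero]
    have e2 : (biprod.snd : F ⊞ Q ⟶ Q).app T c = b := by
      simp only [c, map_add]
      rw [show (biprod.snd : F ⊞ Q ⟶ Q).app T ((biprod.inl : F ⟶ F ⊞ Q).app T a) = 0 from
          ConcreteCategory.congr_hom (congrArg (fun t => Scheme.Modules.Hom.app t T) (biprod.inl_snd (X := F) (Y := Q))) a,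
        show (biprod.snd : F ⊞ Q ⟶ Q).app T ((biprod.inr : Q ⟶ F ⊞ Q).app T b) = b from
          ConcreteCategory.congr_hom (congrArg (fun t => Scheme.Modules.Hom.app t T) (biprod.inr_snd (X := F) (Y := Q))) b,
        zero_add]
    obtain ⟨z, hz⟩ := TFQuot.exists_kernel_app d T c (by
      show η.app T ((biprod.fst : F ⊞ Q ⟶ F).app T c) - q.app T ((biprod.snd : F ⊞ Q ⟶ Q).app T c) = 0
      rw [e1, e2, hab, sub_self])
    exact ⟨z, (congrArg _ hz).trans e1, (congrArg _ hz).trans e2⟩
  have hjoint : ∀ (T : X.Opens) (z : Γ(F', T)), p₁.app T z = 0 → p₂.app T z = 0 → z = 0 := fun T z h1 h2 => by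
    refine ModDesc.app_injective_of_mono (kernel.ι d) T ?_
    rw [map_zero]
    have ht := ConcreteCategory.congr_hom (congrArg (fun t => Scheme.Modules.Hom.app t T) (biprod.total (X := F) (Y := Q)))
      ((kernel.ι d).app T z)
    refine ht.symm.trans ?_
    show (biprod.inl : F ⟶ F ⊞ Q).app T (p₁.app T z) + (biprod.inr : Q ⟶ F ⊞ Q).app T (p₂.app T z) = 0
    rw [h1, h2, map_zero, map_zero, add_zero]
  have hp₁ : ∀ T : X.Opens, IsAffineOpen T → Function.Surjective (p₁.app T) := fun T hT a => by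
    obtain ⟨b, hb⟩ := hqs T hT (η.app T a)
    obtain ⟨z, hz, -⟩ := hmk T a b hb.symm
    exact ⟨z, hz⟩
  have hQflat : ∀ T : X.Opens, IsAffineOpen T → Module.Flat Γ(X, T) Γ(Q, T) := fun T hT => by
    haveI := Ferrand.flat_sections_self A hA (hT.preimage V.ι)
    refine flat_of_semilinear (M' := Γ(A, V.ι ⁻¹ᵁ T)) (V.ι.app T).hom ?_ (AddEquiv.refl _) fun r m => rfl
    rw [Scheme.Hom.app_eq_appLE]
    exact HasRingHomProperty.appLE (P := @Flat) V.ι inferInstance ⟨T, hT⟩ ⟨_, hT.preimage V.ι⟩ le_rfl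
  refine ⟨F', p₁, inferInstance, K0Sub.epi_of_app_surjective _ fun T => hp₁ T.1 T.2, fun x hx => ?_⟩
  rcases hx with hx | hx
  · obtain ⟨T, hT, hxT, hTW⟩ := exists_isAffineOpen_mem_and_subset hx
    refine isFlatAt_of_sections F' hT hxT ?_
    haveI := flat_sections_on F hT fun y hy => hF y (hTW hy)
    haveI hB : Module.Flat Γ(X, T) Γ(R, T) := by
      have hT' : IsAffineOpen (V.ι ''ᵁ (V.ι ⁻¹ᵁ T)) := (hT.preimage V.ι).image_of_isOpenImmersion _
      have hle : V.ι ''ᵁ (V.ι ⁻¹ᵁ T) ≤ T := Scheme.Hom.image_preimage_le _ _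
      haveI := flat_sections_on F hT' fun y hy => hF y (hTW (hle hy))
      refine flat_of_semilinear (M' := Γ(F, V.ι ''ᵁ (V.ι ⁻¹ᵁ T))) (X.presheaf.map (homOfLE hle).op).hom
        (RelReg.flat_res hT hT' hle) (AddEquiv.refl _) fun r m => ?_
      show ((V.ι.appIso (V.ι ⁻¹ᵁ T)).inv (V.ι.app T r)) • (show Γ(F, V.ι ''ᵁ (V.ι ⁻¹ᵁ T)) from m) =
        X.presheaf.map (homOfLE hle).op r • (show Γ(F, V.ι ''ᵁ (V.ι ⁻¹ᵁ T)) from m)
      congr 1
      exact ConcreteCategory.congr_hom (V.ι.app_appIso_inv T) r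
    haveI := hQflat T hT
    haveI : Module.Flat Γ(X, T) (LinearMap.ker (QCoh.appLinear q T)) :=
      (@FlatDesc.flat_iff_of_exact Γ(X, T) (LinearMap.ker (QCoh.appLinear q T)) Γ(Q, T) Γ(R, T) _ _ _ _ _ _ _ _
        (Submodule.subtype _) (QCoh.appLinear q T) (Submodule.injective_subtype _) (LinearMap.exact_subtype_ker_map _)
        (hqs T hT)).1 (hQflat T hT)
    have hKer : Module.Flat Γ(X, T) (LinearMap.ker (QCoh.appLinear p₁ T)) := by
      let f : LinearMap.ker (QCoh.appLinear p₁ T) →ₗ[Γ(X, T)] LinearMap.ker (QCoh.appLinear q T) :=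
        LinearMap.codRestrict _ ((QCoh.appLinear p₂ T).comp (Submodule.subtype _)) fun z => by
          have h := ConcreteCategory.congr_hom (congrArg (fun t => Scheme.Modules.Hom.app t T) hsq) z.1
          have hz : p₁.app T z.1 = 0 := z.2
          refine LinearMap.mem_ker.2 (h.symm.trans ?_)
          show η.app T (p₁.app T z.1) = 0
          rw [hz, map_zero]
      refine Module.Flat.of_linearEquiv (LinearEquiv.ofBijective f ⟨?_, fun w => ?_⟩)
      · refine (injective_iff_map_eq_zero _).2 fun z hz => Subtype.ext ?_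
        exact hjoint T z.1 z.2 (congrArg Subtype.val hz)
      · obtain ⟨z, hz1, hz2⟩ := hmk T 0 w.1 (by rw [map_zero]; exact (LinearMap.mem_ker.1 w.2).symm)
        exact ⟨⟨z, LinearMap.mem_ker.2 hz1⟩, Subtype.ext hz2⟩
    exact (@FlatDesc.flat_iff_of_exact Γ(X, T) (LinearMap.ker (QCoh.appLinear p₁ T)) Γ(F', T) Γ(F, T) _ _ _ _ _ _ _ _
      (Submodule.subtype _) (QCoh.appLinear p₁ T) (Submodule.injective_subtype _) (LinearMap.exact_subtype_ker_map _)
      (hp₁ T hT)).2 hKer
  · obtain ⟨T, hT, hxT, hTV⟩ := exists_isAffineOpen_mem_and_subset hx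
    refine isFlatAt_of_sections F' hT hxT ?_
    have hTV' : V.ι ''ᵁ (V.ι ⁻¹ᵁ T) = T := by
      rw [Scheme.Hom.image_preimage_eq_opensRange_inf, Scheme.Opens.opensRange_ι]
      exact inf_eq_right.2 hTV
    have hη : Function.Bijective (η.app T) := by
      show Function.Bijective (((Scheme.Modules.restrictAdjunction V.ι).unit.app F).app T)
      rw [Scheme.Modules.restrictAdjunction_unit_app_app]
      haveI : IsIso (homOfLE (Scheme.Hom.image_preimage_le V.ι T)) :=
        ⟨homOfLE hTV'.ge, rfl, rfl⟩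
      exact ConcreteCategory.bijective_of_isIso _
    haveI := hQflat T hT
    refine Module.Flat.of_linearEquiv (LinearEquiv.ofBijective (QCoh.appLinear p₂ T) ⟨?_, fun w => ?_⟩)
    · refine (injective_iff_map_eq_zero _).2 fun z hz => hjoint T z (hη.1 ?_) hz
      have h := ConcreteCategory.congr_hom (congrArg (fun t => Scheme.Modules.Hom.app t T) hsq) z
      rw [map_zero]
      refine h.trans ?_
      show q.app T (p₂.app T z) = 0
      rw [show p₂.app T z = 0 from hz, map_zero]
    · obtain ⟨a, ha⟩ := hη.2 (q.app T w)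
      obtain ⟨z, -, hz⟩ := hmk T a w ha
      exact ⟨z, hz⟩

/-- On a quasi-compact scheme with affine intersections a quasi-coherent module is a quotient of a flat one. -/
theorem exists_flat_epi [CompactSpace X]
    (hd : ∀ V W : X.Opens, IsAffineOpen V → IsAffineOpen W → IsAffineOpen (V ⊓ W))
    (M : X.Modules) [M.IsQuasicoherent] :
    ∃ (F : X.Modules) (p : F ⟶ M), F.IsQuasicoherent ∧ FlatMod.IsFlat F ∧ Epi p := by
  classical
  obtain ⟨A, _, U, hU, -, hcov⟩ := QCoh.exists_finite_affine_cover (U := (⊤ : X.Opens)) (by simpa using isCompact_univ)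
  have key : ∀ s : Finset A, ∃ (F : X.Modules) (p : F ⟶ M), F.IsQuasicoherent ∧ Epi p ∧
      ∀ x ∈ s.sup U, FlatMod.IsFlatAt F x := by
    intro s
    induction s using Finset.induction_on with
    | empty => exact ⟨M, 𝟙 M, inferInstance, inferInstance, fun x hx => by simp at hx⟩
    | insert a s _ ih =>
      obtain ⟨F, p, hq, hp, hflat⟩ := ih
      haveI := hq
      haveI := hp
      obtain ⟨F', p', hq', hp', hflat'⟩ := exists_epi_flat_step hd (hU a) (s.sup U) F hflat
      haveI := hp'
      refine ⟨F', p' ≫ p, hq', epi_comp _ _, fun x hx => hflat' x ?_⟩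
      rw [Finset.sup_insert] at hx
      exact hx.symm
  obtain ⟨F, p, hq, hp, hflat⟩ := key Finset.univ
  refine ⟨F, p, hq, fun x => hflat x ?_, hp⟩
  obtain ⟨a, ha⟩ := Opens.mem_iSup.1 (hcov (Opens.mem_top x))
  exact Finset.le_sup (f := U) (Finset.mem_univ a) ha

end GrothLib.FlatQuot
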